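import Cfsg.Agent.SteinbergValue.Chains
import Cfsg.Agent.CharpolySS.Basic

/-!
# The Möbius function of the invariant subspaces of a semisimple endomorphism
-/

set_option autoImplicit false
set_option linter.unusedSectionVars false

namespace CfsgLib.SteinbergValue

open Polynomial Module UniqueFactorizationMonoid

variable {F V : Type*} [Field F] [AddCommGroup V] [Module F V]

/-- The invariant subspaces. -/
noncomputable def invs [Finite V] (g : Module.End F V) : Finset (Submodule F V) :=
  (Set.toFinite {M : Submodule F V | ∀ x ∈ M, g x ∈ M}).toFinset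

theorem mem_invs [Finite V] {g : Module.End F V} {M : Submodule F V} :
    M ∈ invs g ↔ ∀ x ∈ M, g x ∈ M := by simp [invs]

theorem bot_mem_invs [Finite V] (g : Module.End F V) : (⊥ : Submodule F V) ∈ invs g := by
  simp [mem_invs]

theorem top_mem_invs [Finite V] (g : Module.End F V) : (⊤ : Submodule F V) ∈ invs g := by
  simp [mem_invs]

theorem sup_mem_invs [Finite V] {g : Module.End F V} {A B : Submodule F V} (hA : A ∈ invs g)
    (hB : B ∈ invs g) : A ⊔ B ∈ invs g := by
  rw [mem_invs] at *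
  intro x hx
  obtain ⟨a, ha, b, hb, rfl⟩ := Submodule.mem_sup.1 hx
  rw [map_add]
  exact Submodule.add_mem_sup (hA a ha) (hB b hb)

theorem inf_mem_invs [Finite V] {g : Module.End F V} {A B : Submodule F V} (hA : A ∈ invs g)
    (hB : B ∈ invs g) : A ⊓ B ∈ invs g := by
  rw [mem_invs] at *
  exact fun x hx => ⟨hA x hx.1, hB x hx.2⟩

theorem aeval_mem {g : Module.End F V} {M : Submodule F V} (hM : ∀ x ∈ M, g x ∈ M) (p : F[X])
    {x : V} (hx : x ∈ M) : aeval g p x ∈ M := by
  have := CharpolySS.aeval_restrict_coe g M hM p ⟨x, hx⟩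
  rw [← this]; exact Subtype.coe_prop _

variable [FiniteDimensional F V] [DecidableEq F]

/-- The characteristic polynomial on an invariant subspace. -/
noncomputable def resCp (g : Module.End F V) (M : Submodule F V) (hM : ∀ x ∈ M, g x ∈ M) : F[X] :=
  (g.restrict hM).charpoly

theorem resCp_monic (g : Module.End F V) (M : Submodule F V) (hM : ∀ x ∈ M, g x ∈ M) :
    (resCp g M hM).Monic := LinearMap.charpoly_monic _

theorem resCp_natDegree (g : Module.End F V) (M : Submodule F V) (hM : ∀ x ∈ M, g x ∈ M) :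
    (resCp g M hM).natDegree = finrank F M := LinearMap.charpoly_natDegree _

theorem resCp_bot (g : Module.End F V) (hM : ∀ x ∈ (⊥ : Submodule F V), g x ∈ (⊥ : Submodule F V)) :
    resCp g ⊥ hM = 1 :=
  (resCp_monic g ⊥ hM).natDegree_eq_zero.1 (by rw [resCp_natDegree, finrank_bot])

theorem resCp_top (g : Module.End F V) (hM : ∀ x ∈ (⊤ : Submodule F V), g x ∈ (⊤ : Submodule F V)) :
    resCp g ⊤ hM = g.charpoly := by
  rw [resCp, ← LinearEquiv.charpoly_conj (Submodule.topEquiv : (⊤ : Submodule F V) ≃ₗ[F] V) (g.restrict hM)]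
  rfl

theorem resCp_sup (g : Module.End F V) {A B M : Submodule F V} (hA : ∀ x ∈ A, g x ∈ A)
    (hB : ∀ x ∈ B, g x ∈ B) (hM : ∀ x ∈ M, g x ∈ M) (hd : A ⊓ B = ⊥) (hs : A ⊔ B = M) :
    resCp g M hM = resCp g A hA * resCp g B hB := by
  have hAM : A ≤ M := hs ▸ le_sup_left
  have hBM : B ≤ M := hs ▸ le_sup_right
  let c : (A × B) →ₗ[F] M := (Submodule.inclusion hAM).coprod (Submodule.inclusion hBM)
  have hc : Function.Bijective c := by
    constructor
    · rw [← LinearMap.ker_eq_bot, LinearMap.ker_eq_bot']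
      rintro ⟨a, b⟩ h
      have h' : (a : V) + b = 0 := congrArg Subtype.val h
      have ha : (a : V) ∈ A ⊓ B :=
        ⟨a.2, by rw [eq_neg_of_add_eq_zero_left h']; exact B.neg_mem b.2⟩
      rw [hd, Submodule.mem_bot] at ha
      rw [ha, zero_add] at h'
      simp [Prod.ext_iff, Subtype.ext_iff, ha, h']
    · rintro ⟨x, hx⟩
      rw [← hs] at hx
      obtain ⟨a, ha, b, hb, rfl⟩ := Submodule.mem_sup.1 hx
      exact ⟨(⟨a, ha⟩, ⟨b, hb⟩), rfl⟩
  let e := LinearEquiv.ofBijective c hc
  rw [resCp, resCp, resCp, ← LinearMap.charpoly_prodMap,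
    ← LinearEquiv.charpoly_conj e ((g.restrict hA).prodMap (g.restrict hB))]
  congr 1
  refine LinearMap.ext fun x => ?_
  obtain ⟨⟨a, b⟩, rfl⟩ := e.surjective x
  rw [LinearEquiv.conj_apply, LinearMap.comp_apply, LinearMap.comp_apply, LinearEquiv.coe_coe,
    LinearEquiv.coe_coe, LinearEquiv.symm_apply_apply]
  exact Subtype.ext (map_add g (a : V) b)

/-- A minimal invariant subspace with irreducible characteristic polynomial, cyclic. -/
structure IsAtomInv (g : Module.End F V) (S : Submodule F V) (π : F[X]) : Prop where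
  inv : ∀ x ∈ S, g x ∈ S
  ne_bot : S ≠ ⊥
  simple : ∀ W : Submodule F V, (∀ x ∈ W, g x ∈ W) → W ≤ S → W = ⊥ ∨ W = S
  irreducible : Irreducible π
  monic : π.Monic
  cp : resCp g S inv = π
  ann : ∀ x ∈ S, aeval g π x = 0
  finrank_eq : finrank F S = π.natDegree
  cyclic : ∀ v ∈ S, v ≠ 0 → ∀ x ∈ S, ∃ p ∈ degreeLT F π.natDegree, aeval g p v = x

theorem exists_atom (g : Module.End F V) {M : Submodule F V} (hM : ∀ x ∈ M, g x ∈ M) (h0 : M ≠ ⊥) :
    ∃ S π, S ≤ M ∧ IsAtomInv g S π := by
  classical
  have hex : ∃ d, ∃ S : Submodule F V, S ≤ M ∧ S ≠ ⊥ ∧ (∀ x ∈ S, g x ∈ S) ∧ finrank F S = d :=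
    ⟨_, M, le_rfl, h0, hM, rfl⟩
  obtain ⟨S, hSM, hS0, hS, hd⟩ := Nat.find_spec hex
  have simple : ∀ W : Submodule F V, (∀ x ∈ W, g x ∈ W) → W ≤ S → W = ⊥ ∨ W = S := by
    intro W hW hWS
    by_cases hW0 : W = ⊥
    · exact Or.inl hW0
    refine Or.inr (Submodule.eq_of_le_of_finrank_le hWS ?_)
    rw [hd]
    exact Nat.find_le ⟨W, hWS.trans hSM, hW0, hW, rfl⟩
  set g' := g.restrict hS with hg'
  have hne : Nontrivial S := Submodule.nontrivial_iff_ne_bot.2 hS0
  have hint : IsIntegral F g' := Algebra.IsIntegral.isIntegral g'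
  have hμ : ¬ IsUnit (minpoly F g') := minpoly.not_isUnit F g'
  obtain ⟨π₀, hπ₀, hdvd⟩ := WfDvdMonoid.exists_irreducible_factor hμ (minpoly.ne_zero hint)
  set π := normalize π₀ with hπdef
  have hπ : Irreducible π := (normalize_associated π₀).irreducible_iff.2 hπ₀
  have hπm : π.Monic := Polynomial.monic_normalize hπ₀.ne_zero
  have hπdvd : π ∣ minpoly F g' := normalize_dvd_iff.2 hdvd
  have ann : ∀ x ∈ S, aeval g π x = 0 := by
    let K : Submodule F V := S ⊓ LinearMap.ker (aeval g π)
    have hK : ∀ x ∈ K, g x ∈ K := fun x hx => ⟨hS x hx.1, CharpolySS.mapsTo_ker_aeval g π x hx.2⟩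
    rcases simple K hK inf_le_left with h | h
    · exfalso
      obtain ⟨r, hr⟩ := hπdvd
      have hr0 : r ≠ 0 := fun e => minpoly.ne_zero hint (by rw [hr, e, mul_zero])
      have : aeval g' r = 0 := by
        refine LinearMap.ext fun x => ?_
        apply Subtype.ext
        have hx : ((aeval g' r x : S) : V) ∈ K := by
          refine ⟨Subtype.coe_prop _, ?_⟩
          have e : aeval g' (π * r) x = 0 := by rw [← hr, minpoly.aeval]; rfl
          rw [map_mul, Module.End.mul_apply] at e
          have e' := congrArg Subtype.val e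
          rw [CharpolySS.aeval_restrict_coe] at e'
          simpa using e'
        rw [h, Submodule.mem_bot] at hx
        simpa using hx
      have hle := minpoly.degree_le_of_ne_zero F g' hr0 this
      rw [hr, degree_mul, degree_eq_natDegree hπ.ne_zero, degree_eq_natDegree hr0, ← Nat.cast_add,
        Nat.cast_le] at hle
      have := hπ.natDegree_pos
      omega
    · exact fun x hx => ((h ▸ hx : x ∈ K)).2
  have cyc : ∀ v ∈ S, v ≠ 0 → ∀ x ∈ S, ∃ p ∈ degreeLT F π.natDegree, aeval g p v = x := by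
    intro v hv hv0
    let T : degreeLT F π.natDegree →ₗ[F] V :=
      ((LinearMap.applyₗ v).comp (aeval g).toLinearMap).comp (Submodule.subtype _)
    have hT : ∀ p : degreeLT F π.natDegree, T p = aeval g (p : F[X]) v := fun p => rfl
    have red : ∀ p : F[X], aeval g (p %ₘ π) v = aeval g p v := by
      intro p
      conv_rhs => rw [← modByMonic_add_div p π]
      rw [mul_comm π]
      simp [map_add, map_mul, Module.End.mul_apply, ann v hv]
    have hinv : ∀ x ∈ LinearMap.range T, g x ∈ LinearMap.range T := by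
      rintro _ ⟨p, rfl⟩
      refine ⟨⟨(X * (p : F[X])) %ₘ π, ?_⟩, ?_⟩
      · rw [mem_degreeLT, ← degree_eq_natDegree hπ.ne_zero]
        exact degree_modByMonic_lt _ hπm
      · rw [hT, hT, red]; simp [Module.End.mul_apply]
    have hle : LinearMap.range T ≤ S := by
      rintro _ ⟨p, rfl⟩; rw [hT]; exact aeval_mem hS _ hv
    have hv' : v ∈ LinearMap.range T := by
      refine ⟨⟨1, ?_⟩, by rw [hT]; simp⟩
      rw [mem_degreeLT, degree_one]
      exact_mod_cast hπ.natDegree_pos
    rcases simple _ hinv hle with h | h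
    · exact absurd (by rw [h] at hv'; simpa using hv') hv0
    · intro x hx
      rw [← h] at hx
      obtain ⟨p, rfl⟩ := hx
      exact ⟨p, p.2, rfl⟩
  have hdim : finrank F S ≤ π.natDegree := by
    obtain ⟨v, hv, hv0⟩ := (Submodule.ne_bot_iff _).1 hS0
    let T : degreeLT F π.natDegree →ₗ[F] S :=
      LinearMap.codRestrict S (((LinearMap.applyₗ v).comp (aeval g).toLinearMap).comp (Submodule.subtype _))
        fun p => aeval_mem hS _ hv
    have hs : Function.Surjective T := by
      rintro ⟨x, hx⟩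
      obtain ⟨p, hp, e⟩ := cyc v hv hv0 x hx
      exact ⟨⟨p, hp⟩, Subtype.ext e⟩
    haveI : Module.Finite F (degreeLT F π.natDegree) := Module.Finite.equiv (degreeLTEquiv F _).symm
    refine (LinearMap.finrank_le_finrank_of_surjective hs).trans ?_
    rw [LinearEquiv.finrank_eq (degreeLTEquiv F _), finrank_fin_fun]
  have hcp : resCp g S hS = π := by
    have hann' : aeval g' π = 0 := LinearMap.ext fun x => Subtype.ext (by
      rw [CharpolySS.aeval_restrict_coe]; simpa using ann x x.2)
    have hdv := CharpolySS.charpoly_dvd_pow_of_aeval_eq_zero g' π hann'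
    obtain ⟨i, -, hi⟩ := (dvd_prime_pow hπ.prime _).1 hdv
    have e : resCp g S hS = π ^ i := eq_of_monic_of_associated (resCp_monic g S hS) (hπm.pow i) hi
    have e' := congrArg natDegree e
    rw [resCp_natDegree, natDegree_pow] at e'
    have hpos := hπ.natDegree_pos
    have : 0 < finrank F S := Module.finrank_pos
    have hi1 : i = 1 := by nlinarith
    rw [e, hi1, pow_one]
  refine ⟨S, π, hSM, hS, hS0, simple, hπ, hπm, hcp, ann, ?_, cyc⟩
  rw [← hcp, resCp_natDegree]

/-- Equivariant maps. -/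
abbrev HomInv (g : Module.End F V) (H S : Submodule F V) (hH : ∀ x ∈ H, g x ∈ H) : Type _ :=
  {φ : H →ₗ[F] S // ∀ h : H, ((φ ⟨g h, hH h h.2⟩ : S) : V) = g (φ h : V)}

theorem equivariant_aeval {g : Module.End F V} {H S : Submodule F V} {hH : ∀ x ∈ H, g x ∈ H}
    (φ : HomInv g H S hH) (p : F[X]) (h : H) :
    ((φ.1 ⟨aeval g p h, aeval_mem hH p h.2⟩ : S) : V) = aeval g p (φ.1 h : V) := by
  induction p using Polynomial.induction_on' with
  | add p q hp hq =>
    have e : (⟨aeval g (p + q) h, aeval_mem hH _ h.2⟩ : H) =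
        ⟨aeval g p h, aeval_mem hH p h.2⟩ + ⟨aeval g q h, aeval_mem hH q h.2⟩ :=
      Subtype.ext (by simp)
    rw [e, map_add, Submodule.coe_add, hp, hq]; simp
  | monomial i a =>
    induction i generalizing a with
    | zero =>
      have e : (⟨aeval g (monomial 0 a) h, aeval_mem hH _ h.2⟩ : H) = a • h := Subtype.ext (by simp)
      rw [e, map_smul]; simp
    | succ i ih =>
      have e1 : ∀ w : V, aeval g (monomial (i + 1) a) w = g (aeval g (monomial i a) w) := by
        intro w
        rw [← X_mul_monomial, map_mul, Module.End.mul_apply, aeval_X]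
      have e2 : (⟨aeval g (monomial (i + 1) a) h, aeval_mem hH _ h.2⟩ : H) =
          ⟨g (aeval g (monomial i a) h), hH _ (aeval_mem hH _ h.2)⟩ := Subtype.ext (e1 h)
      rw [e2, φ.2 ⟨_, aeval_mem hH _ h.2⟩, ih a, e1]

theorem card_homInv_atom [Finite V] {g : Module.End F V} {S S' : Submodule F V} {π π' : F[X]}
    (hS : IsAtomInv g S π) (hS' : IsAtomInv g S' π') :
    Nat.card (HomInv g S' S hS'.inv) = if π' = π then Nat.card F ^ π.natDegree else 1 := by
  obtain ⟨v, hv, hv0⟩ := (Submodule.ne_bot_iff _).1 hS'.ne_bot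
  let ev : HomInv g S' S hS'.inv → S := fun φ => φ.1 ⟨v, hv⟩
  have hinj : Function.Injective ev := by
    intro φ ψ h
    refine Subtype.ext (LinearMap.ext fun x => ?_)
    obtain ⟨p, -, hp⟩ := hS'.cyclic v hv hv0 x x.2
    have e : x = (⟨aeval g p v, aeval_mem hS'.inv p hv⟩ : S') := Subtype.ext hp.symm
    apply Subtype.ext
    rw [e]
    have h1 := equivariant_aeval φ p ⟨v, hv⟩
    have h2 := equivariant_aeval ψ p ⟨v, hv⟩
    rw [h1, h2, show φ.1 ⟨v, hv⟩ = ψ.1 ⟨v, hv⟩ from h]
  split_ifs with hπ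
  · subst hπ
    have hsurj : Function.Surjective ev := by
      intro w
      haveI : Module.Finite F (degreeLT F π'.natDegree) := Module.Finite.equiv (degreeLTEquiv F _).symm
      let T : degreeLT F π'.natDegree →ₗ[F] S' :=
        LinearMap.codRestrict S' (((LinearMap.applyₗ v).comp (aeval g).toLinearMap).comp (Submodule.subtype _))
          fun p => aeval_mem hS'.inv _ hv
      let U : degreeLT F π'.natDegree →ₗ[F] S :=
        LinearMap.codRestrict S (((LinearMap.applyₗ (w : V)).comp (aeval g).toLinearMap).comp (Submodule.subtype _))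
          fun p => aeval_mem hS.inv _ w.2
      have hs : Function.Surjective T := by
        rintro ⟨x, hx⟩
        obtain ⟨p, hp, e⟩ := hS'.cyclic v hv hv0 x hx
        exact ⟨⟨p, hp⟩, Subtype.ext e⟩
      have hrk : finrank F (degreeLT F π'.natDegree) = finrank F S' := by
        rw [LinearEquiv.finrank_eq (degreeLTEquiv F _), finrank_fin_fun, hS'.finrank_eq]
      have hi : Function.Injective T := (LinearMap.injective_iff_surjective_of_finrank_eq_finrank hrk).2 hs
      let e := LinearEquiv.ofBijective T ⟨hi, hs⟩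
      let φ : S' →ₗ[F] S := U.comp e.symm.toLinearMap
      have key : ∀ p : F[X], (φ ⟨aeval g p v, aeval_mem hS'.inv p hv⟩ : V) = aeval g p (w : V) := by
        intro p
        have red : ∀ u : V, aeval g π' u = 0 → aeval g (p %ₘ π') u = aeval g p u := by
          intro u hu
          conv_rhs => rw [← modByMonic_add_div p π']
          rw [mul_comm π']
          simp [map_add, map_mul, Module.End.mul_apply, hu]
        have hmem : p %ₘ π' ∈ degreeLT F π'.natDegree := by
          rw [mem_degreeLT, ← degree_eq_natDegree hS'.irreducible.ne_zero]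
          exact degree_modByMonic_lt _ hS'.monic
        have he : e ⟨p %ₘ π', hmem⟩ = ⟨aeval g p v, aeval_mem hS'.inv p hv⟩ :=
          Subtype.ext (red v (hS'.ann v hv))
        show (U (e.symm _) : V) = _
        rw [← he, LinearEquiv.symm_apply_apply]
        exact red w (hS.ann w w.2)
      refine ⟨⟨φ, fun h => ?_⟩, ?_⟩
      · obtain ⟨p, -, hp⟩ := hS'.cyclic v hv hv0 h h.2
        have e1 : (⟨g h, hS'.inv h h.2⟩ : S') = ⟨aeval g (X * p) v, aeval_mem hS'.inv _ hv⟩ :=
          Subtype.ext (by simp [← hp, Module.End.mul_apply])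
        have e2 : h = (⟨aeval g p v, aeval_mem hS'.inv p hv⟩ : S') := Subtype.ext hp.symm
        rw [e1, key]
        conv_rhs => rw [e2, key]
        simp [Module.End.mul_apply]
      · apply Subtype.ext
        have := key 1
        simpa [ev] using this
    rw [Nat.card_congr (Equiv.ofBijective ev ⟨hinj, hsurj⟩), Module.natCard_eq_pow_finrank (K := F),
      hS.finrank_eq]
  · have hz : ∀ φ, ev φ = 0 := by
      intro φ
      have hco : IsCoprime π' π := hS'.irreducible.coprime_iff_not_dvd.2 fun hd =>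
        hπ (eq_of_monic_of_associated hS'.monic hS.monic
          ((hS'.irreducible.associated_of_dvd hS.irreducible hd)))
      obtain ⟨a, b, hab⟩ := hco
      have h2 : aeval g π' (ev φ : V) = 0 := by
        have := equivariant_aeval φ π' ⟨v, hv⟩
        rw [← this]
        have e : (⟨aeval g π' v, aeval_mem hS'.inv π' hv⟩ : S') = 0 := Subtype.ext (hS'.ann v hv)
        rw [e, map_zero, Submodule.coe_zero]
      have h3 : aeval g (a * π' + b * π) (ev φ : V) = (ev φ : V) := by rw [hab]; simp
      rw [map_add, map_mul, map_mul, LinearMap.add_apply, Module.End.mul_apply, Module.End.mul_apply,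
        h2, hS.ann _ (Subtype.coe_prop _), map_zero, map_zero, zero_add] at h3
      exact Subtype.ext h3.symm
    haveI : Nonempty (HomInv g S' S hS'.inv) := ⟨⟨0, fun h => by simp⟩⟩
    haveI : Subsingleton (HomInv g S' S hS'.inv) := ⟨fun a b => hinj ((hz a).trans (hz b).symm)⟩
    exact Nat.card_unique

variable [Finite V]

theorem exists_compl {g : Module.End F V} (hss : g.IsSemisimple) {S M : Submodule F V}
    (hS : ∀ x ∈ S, g x ∈ S) (hM : ∀ x ∈ M, g x ∈ M) (hSM : S ≤ M) :
    ∃ H, (∀ x ∈ H, g x ∈ H) ∧ H ≤ M ∧ S ⊓ H = ⊥ ∧ S ⊔ H = M := by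
  obtain ⟨⟨q, hq⟩, hc⟩ := Module.End.isSemisimple_iff'.1 hss ⟨S, hS⟩
  have hd : S ⊓ q = ⊥ := by
    have := hc.inf_eq_bot
    exact congrArg Subtype.val this
  have hu : S ⊔ q = ⊤ := congrArg Subtype.val hc.sup_eq_top
  refine ⟨q ⊓ M, fun x hx => ⟨hq hx.1, hM x hx.2⟩, inf_le_right, ?_, ?_⟩
  · rw [← inf_assoc, hd, bot_inf_eq]
  · rw [← sup_inf_assoc_of_le q hSM, hu, top_inf_eq]

theorem count_sup {g : Module.End F V} {A B M : Submodule F V} {π' : F[X]} (hA : IsAtomInv g A π')
    (hB : ∀ x ∈ B, g x ∈ B) (hM : ∀ x ∈ M, g x ∈ M) (hd : A ⊓ B = ⊥) (hs : A ⊔ B = M) :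
    normalizedFactors (resCp g M hM) = π' ::ₘ normalizedFactors (resCp g B hB) := by
  rw [resCp_sup g hA.inv hB hM hd hs, hA.cp,
    normalizedFactors_mul hA.irreducible.ne_zero (resCp_monic g B hB).ne_zero,
    normalizedFactors_irreducible hA.irreducible, hA.monic.normalize_eq_self]
  rfl

theorem card_homInv {g : Module.End F V} (hss : g.IsSemisimple) {S : Submodule F V} {π : F[X]}
    (hS : IsAtomInv g S π) : ∀ (n : ℕ) (H : Submodule F V) (hH : ∀ x ∈ H, g x ∈ H), finrank F H = n →
    Nat.card (HomInv g H S hH) =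
      Nat.card F ^ (π.natDegree * (normalizedFactors (resCp g H hH)).count π) := by
  intro n
  induction n using Nat.strong_induction_on with
  | _ n ih =>
  intro H hH hn
  by_cases h0 : H = ⊥
  · subst h0
    haveI : Nonempty (HomInv g ⊥ S hH) := ⟨⟨0, fun h => by simp⟩⟩
    haveI : Subsingleton (HomInv g ⊥ S hH) := ⟨fun a b => Subtype.ext (LinearMap.ext fun x => by
      rw [Subsingleton.elim x 0, map_zero, map_zero])⟩
    rw [Nat.card_unique, resCp_bot]; simp
  obtain ⟨S', π', hS'H, hS'⟩ := exists_atom g hH h0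
  obtain ⟨H', hH', hH'H, hd, hs⟩ := exists_compl hss hS'.inv hH hS'H
  have hlt : finrank F H' < n := by
    rw [← hn]
    refine Submodule.finrank_lt_finrank_of_lt (lt_of_le_of_ne hH'H fun e => hS'.ne_bot ?_)
    rw [e] at hd
    rwa [inf_eq_left.2 hS'H] at hd
  let c : (S' × H') →ₗ[F] H := (Submodule.inclusion hS'H).coprod (Submodule.inclusion hH'H)
  have hc : Function.Bijective c := by
    constructor
    · rw [← LinearMap.ker_eq_bot, LinearMap.ker_eq_bot']
      rintro ⟨a, b⟩ h
      have h' : (a : V) + b = 0 := congrArg Subtype.val h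
      have ha : (a : V) ∈ S' ⊓ H' :=
        ⟨a.2, by rw [eq_neg_of_add_eq_zero_left h']; exact H'.neg_mem b.2⟩
      rw [hd, Submodule.mem_bot] at ha
      rw [ha, zero_add] at h'
      simp [Prod.ext_iff, Subtype.ext_iff, ha, h']
    · rintro ⟨x, hx⟩
      rw [← hs] at hx
      obtain ⟨a, ha, b, hb, rfl⟩ := Submodule.mem_sup.1 hx
      exact ⟨(⟨a, ha⟩, ⟨b, hb⟩), rfl⟩
  let e := LinearEquiv.ofBijective c hc
  let E : HomInv g H S hH ≃ HomInv g S' S hS'.inv × HomInv g H' S hH' :=
    { toFun := fun φ =>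
        (⟨φ.1.comp (Submodule.inclusion hS'H), fun h => φ.2 (Submodule.inclusion hS'H h)⟩,
          ⟨φ.1.comp (Submodule.inclusion hH'H), fun h => φ.2 (Submodule.inclusion hH'H h)⟩)
      invFun := fun p => ⟨(p.1.1.coprod p.2.1).comp e.symm.toLinearMap, fun h => by
        obtain ⟨⟨a, b⟩, rfl⟩ := e.surjective h
        have e1 : (⟨g (e (a, b) : V), hH _ (Subtype.coe_prop _)⟩ : H) =
            e (⟨g a, hS'.inv a a.2⟩, ⟨g b, hH' b b.2⟩) := Subtype.ext (map_add g (a : V) b)
        rw [e1]
        simp [p.1.2 a, p.2.2 b]⟩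
      left_inv := fun φ => by
        refine Subtype.ext (LinearMap.ext fun h => ?_)
        obtain ⟨⟨a, b⟩, rfl⟩ := e.surjective h
        simp only [LinearMap.comp_apply, LinearEquiv.coe_coe, LinearEquiv.symm_apply_apply,
          LinearMap.coprod_apply, ← map_add]
        rfl
      right_inv := fun p => by
        refine Prod.ext (Subtype.ext (LinearMap.ext fun a => ?_)) (Subtype.ext (LinearMap.ext fun b => ?_))
        · have e1 : e.symm (Submodule.inclusion hS'H a) = (a, 0) := by
            rw [LinearEquiv.symm_apply_eq]; exact Subtype.ext (by simp [e, c])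
          simp [e1]
        · have e1 : e.symm (Submodule.inclusion hH'H b) = (0, b) := by
            rw [LinearEquiv.symm_apply_eq]; exact Subtype.ext (by simp [e, c])
          simp [e1] }
  rw [Nat.card_congr E, Nat.card_prod, card_homInv_atom hS hS', ih _ hlt H' hH' rfl,
    count_sup hS' hH' hH hd hs, Multiset.count_cons]
  by_cases h : π' = π
  · subst h; simp [← pow_add]; ring
  · simp [h, Ne.symm h]

/-- The predicted value. -/
noncomputable def mobiusValue (q : ℕ) [DecidableEq F] (s : Multiset F[X]) : ℤ :=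
  ∏ π ∈ s.toFinset, (-1) ^ s.count π * (q : ℤ) ^ (π.natDegree * (s.count π).choose 2)

theorem mobiusValue_cons (q : ℕ) [DecidableEq F] (π : F[X]) (s : Multiset F[X]) :
    mobiusValue q (π ::ₘ s) = -((q : ℤ) ^ (π.natDegree * s.count π)) * mobiusValue q s := by
  have hout : ∀ t : Multiset F[X], ∀ T : Finset F[X], t.toFinset ⊆ T →
      mobiusValue q t = ∏ x ∈ T, (-1) ^ t.count x * (q : ℤ) ^ (x.natDegree * (t.count x).choose 2) := by
    intro t T hT
    refine Finset.prod_subset hT fun x _ hx => ?_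
    rw [Multiset.count_eq_zero.2 (by rwa [Multiset.mem_toFinset] at hx)]
    simp
  have hm : π ∈ insert π s.toFinset := Finset.mem_insert_self _ _
  rw [hout (π ::ₘ s) (insert π s.toFinset) (by simp), hout s (insert π s.toFinset) (Finset.subset_insert _ _),
    ← Finset.mul_prod_erase _ _ hm, ← Finset.mul_prod_erase _ _ hm, Multiset.count_cons_self,
    Nat.choose_succ_succ', Nat.choose_one_right, mul_add, pow_add, pow_succ]
  have hrest : ∀ x ∈ (insert π s.toFinset).erase π, (π ::ₘ s).count x = s.count x := fun x hx =>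
    Multiset.count_cons_of_ne (Finset.ne_of_mem_erase hx) _
  rw [Finset.prod_congr rfl fun x hx => by rw [hrest x hx]]
  ring

/-- The Möbius function of the lattice of invariant subspaces. -/
theorem chainSum_invs {g : Module.End F V} (hss : g.IsSemisimple) :
    ∀ (n : ℕ) (M : Submodule F V) (hM : ∀ x ∈ M, g x ∈ M), finrank F M = n →
      chainSum (invs g) M = mobiusValue (Nat.card F) (normalizedFactors (resCp g M hM)) := by
  intro n
  induction n using Nat.strong_induction_on with
  | _ n ih =>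
  intro M hM hn
  by_cases h0 : M = ⊥
  · subst h0
    rw [chainSum_bot, resCp_bot]; simp [mobiusValue]
  obtain ⟨S, π, hSM, hS⟩ := exists_atom g hM h0
  obtain ⟨H₀, hH₀, hH₀M, hd₀, hs₀⟩ := exists_compl hss hS.inv hM hSM
  set s₀ := normalizedFactors (resCp g H₀ hH₀) with hs₀def
  have hW := weisner (bot_mem_invs g) (fun A hA B hB => sup_mem_invs hA hB) (mem_invs.2 hS.inv)
    hS.ne_bot (mem_invs.2 hM) hSM
  set T := (invs g).filter (fun H => S ⊔ H = M) with hT
  have hMT : M ∈ T := Finset.mem_filter.2 ⟨mem_invs.2 hM, sup_eq_right.2 hSM⟩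
  have hcompl : ∀ H ∈ T.erase M, (∀ x ∈ H, g x ∈ H) ∧ S ⊓ H = ⊥ ∧ S ⊔ H = M := by
    intro H hH
    rw [Finset.mem_erase, hT, Finset.mem_filter, mem_invs] at hH
    refine ⟨hH.2.1, ?_, hH.2.2⟩
    rcases hS.simple (S ⊓ H) (fun x hx => ⟨hS.inv x hx.1, hH.2.1 x hx.2⟩) inf_le_left with h | h
    · exact h
    · exact absurd (by rw [← hH.2.2, sup_eq_right.2 (inf_eq_left.1 h)]) hH.1
  have hval : ∀ H ∈ T.erase M, chainSum (invs g) H = mobiusValue (Nat.card F) s₀ := by
    intro H hH
    obtain ⟨hi, hd, hs⟩ := hcompl H hH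
    have hlt : finrank F H < n := by
      rw [← hn]
      exact Submodule.finrank_lt_finrank_of_lt
        (lt_of_le_of_ne (hs ▸ le_sup_right) (Finset.ne_of_mem_erase hH))
    rw [ih _ hlt H hi rfl]
    congr 1
    have h1 := count_sup hS hi hM hd hs
    have h2 := count_sup hS hH₀ hM hd₀ hs₀
    exact (Multiset.cons_inj_right _).1 (h1.symm.trans h2)
  rw [← Finset.add_sum_erase _ _ hMT, Finset.sum_congr rfl hval, Finset.sum_const, nsmul_eq_mul] at hW
  -- the complements are the graphs of equivariant maps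
  have hcount : (T.erase M).card = Nat.card (HomInv g H₀ S hH₀) := by
    let graph : HomInv g H₀ S hH₀ → Submodule F V := fun φ =>
      LinearMap.range (H₀.subtype + S.subtype.comp φ.1)
    have hmem : ∀ φ, graph φ ∈ T.erase M := by
      intro φ
      have hinv : ∀ x ∈ graph φ, g x ∈ graph φ := by
        rintro _ ⟨h, rfl⟩
        exact ⟨⟨g h, hH₀ h h.2⟩, by simp [φ.2 h]⟩
      have hsup : S ⊔ graph φ = M := by
        refine le_antisymm (sup_le hSM ?_) ?_
        · rintro _ ⟨h, rfl⟩
          exact M.add_mem (hH₀M h.2) (hSM (Subtype.coe_prop _))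
        · rw [← hs₀]
          refine sup_le le_sup_left fun x hx => ?_
          have : x = -((φ.1 ⟨x, hx⟩ : S) : V) + (x + (φ.1 ⟨x, hx⟩ : S)) := by abel
          rw [this]
          exact Submodule.add_mem_sup (S.neg_mem (Subtype.coe_prop _)) ⟨⟨x, hx⟩, rfl⟩
      refine Finset.mem_erase.2 ⟨fun e => hS.ne_bot ?_, Finset.mem_filter.2 ⟨mem_invs.2 hinv, hsup⟩⟩
      rw [Submodule.eq_bot_iff]
      intro x hx
      have hx' : x ∈ graph φ := by rw [e]; exact hSM hx
      obtain ⟨h, hh⟩ := hx'
      have hh' : (h : V) + (φ.1 h : V) = x := hh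
      have h0' : (h : V) ∈ S ⊓ H₀ := ⟨by
        rw [show (h : V) = x - (φ.1 h : V) by rw [← hh']; abel]
        exact S.sub_mem hx (Subtype.coe_prop _), h.2⟩
      rw [hd₀, Submodule.mem_bot] at h0'
      have : h = 0 := Subtype.ext h0'
      rw [this] at hh'
      simpa using hh'.symm
    rw [← Nat.card_eq_finsetCard]
    refine (Nat.card_congr (Equiv.ofBijective (fun φ => (⟨graph φ, hmem φ⟩ : T.erase M)) ⟨?_, ?_⟩)).symm
    · intro φ ψ e
      have e' : graph φ = graph ψ := congrArg Subtype.val e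
      refine Subtype.ext (LinearMap.ext fun h => Subtype.ext ?_)
      have hx : (h : V) + (φ.1 h : V) ∈ graph ψ := by rw [← e']; exact ⟨h, rfl⟩
      obtain ⟨k, hk⟩ := hx
      have hk' : (k : V) + (ψ.1 k : V) = (h : V) + (φ.1 h : V) := hk
      have h0' : (k : V) - h ∈ S ⊓ H₀ := ⟨by
        rw [show (k : V) - h = (φ.1 h : V) - (ψ.1 k : V) by
          rw [sub_eq_sub_iff_add_eq_add, hk', add_comm]]
        exact S.sub_mem (Subtype.coe_prop _) (Subtype.coe_prop _), H₀.sub_mem k.2 h.2⟩
      rw [hd₀, Submodule.mem_bot, sub_eq_zero] at h0'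
      have : k = h := Subtype.ext h0'
      rw [this] at hk'
      exact (add_left_cancel hk').symm
    · rintro ⟨H, hH⟩
      obtain ⟨hi, hd, hs⟩ := hcompl H hH
      -- projection to `S` along `H`
      have hex : ∀ h : H₀, ∃ s : S, (h : V) + s ∈ H := by
        intro h
        have : (h : V) ∈ S ⊔ H := by rw [hs]; exact hH₀M h.2
        obtain ⟨s, hs', k, hk, e⟩ := Submodule.mem_sup.1 this
        refine ⟨-⟨s, hs'⟩, ?_⟩
        have : (h : V) + ((-⟨s, hs'⟩ : S) : V) = k := by simp [← e]
        rwa [this]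
      choose f hf using hex
      have huniq : ∀ (h : H₀) (s : S), (h : V) + s ∈ H → s = f h := by
        intro h s hs'
        have : ((s : V) - f h) ∈ S ⊓ H := ⟨S.sub_mem s.2 (f h).2, by
          rw [show (s : V) - f h = ((h : V) + s) - ((h : V) + f h) by abel]
          exact H.sub_mem hs' (hf h)⟩
        rw [hd, Submodule.mem_bot, sub_eq_zero] at this
        exact Subtype.ext this
      let φ : H₀ →ₗ[F] S :=
        { toFun := f
          map_add' := fun a b => (huniq (a + b) _ (by
            rw [Submodule.coe_add, Submodule.coe_add, add_add_add_comm]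
            exact H.add_mem (hf a) (hf b))).symm
          map_smul' := fun c a => (huniq (c • a) _ (by
            rw [RingHom.id_apply, Submodule.coe_smul, Submodule.coe_smul, ← smul_add]
            exact H.smul_mem c (hf a))).symm }
      have hφ : ∀ h : H₀, ((φ ⟨g h, hH₀ h h.2⟩ : S) : V) = g (φ h : V) := by
        intro h
        have := huniq ⟨g h, hH₀ h h.2⟩ ⟨g (f h : V), hS.inv _ (f h).2⟩ (by
          show g (h : V) + g (f h : V) ∈ H
          rw [← map_add]; exact hi _ (hf h))
        exact (congrArg Subtype.val this).symm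
      refine ⟨⟨φ, hφ⟩, Subtype.ext (le_antisymm ?_ fun x hx => ?_)⟩
      · rintro _ ⟨h, rfl⟩; exact hf h
      · have hxM : x ∈ S ⊔ H₀ := by rw [hs₀, ← hs]; exact Submodule.mem_sup_right hx
        obtain ⟨s, hs', k, hk, rfl⟩ := Submodule.mem_sup.1 hxM
        have := huniq ⟨k, hk⟩ ⟨s, hs'⟩ (by simpa [add_comm] using hx)
        refine ⟨⟨k, hk⟩, ?_⟩
        show k + ((f ⟨k, hk⟩ : S) : V) = s + k
        rw [← this, add_comm]
  rw [hcount, card_homInv hss hS _ H₀ hH₀ rfl] at hW
  rw [count_sup hS hH₀ hM hd₀ hs₀, mobiusValue_cons]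
  push_cast at hW
  linear_combination hW

end CfsgLib.SteinbergValue
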