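import Cfsg.Prelude.Def_LinearParabolics
import Cfsg.Agent.SteinbergValue.Invariant

/-!
# The alternating sum of parabolic permutation characters as a sum over invariant flags
-/

set_option autoImplicit false
set_option linter.unusedSectionVars false

namespace CfsgLib.SteinbergValue

open Finset Module

variable {n : ℕ}

/-- The permutations in the sum for the all-one shift. -/
def IsValid (κ : Equiv.Perm (Fin n)) : Prop := ∀ i, (κ i).val ≤ 1 + i.val

/-- The block ends. -/
def ends (κ : Equiv.Perm (Fin n)) : Finset (Fin n) := univ.filter fun i => (κ i).val ≤ i.val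

theorem mem_ends {κ : Equiv.Perm (Fin n)} {i : Fin n} : i ∈ ends κ ↔ (κ i).val ≤ i.val := by
  simp [ends]

theorem image_Iic {κ : Equiv.Perm (Fin n)} (h : IsValid κ) {e : Fin n} (he : e ∈ ends κ) :
    (Finset.Iic e).image κ = Finset.Iic e := by
  refine eq_of_subset_of_card_le (fun v hv => ?_) (by rw [card_image_of_injective _ κ.injective])
  obtain ⟨i, hi, rfl⟩ := mem_image.1 hv
  rw [Finset.mem_Iic, Fin.le_def] at hi ⊢
  rcases hi.lt_or_eq with hlt | heq
  · have := h i; omega
  · rw [Fin.ext heq]; exact mem_ends.1 he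

theorem ends_injective {κ κ' : Equiv.Perm (Fin n)} (h : IsValid κ) (h' : IsValid κ')
    (e : ends κ = ends κ') : κ = κ' := by
  suffices H : ∀ m : ℕ, ∀ i : Fin n, i.val = m → κ i = κ' i from Equiv.ext fun i => H _ i rfl
  intro m
  induction m using Nat.strong_induction_on with
  | _ m ih =>
  intro i hi
  by_cases hE : i ∈ ends κ
  · have hE' : i ∈ ends κ' := e ▸ hE
    have hv : κ i ∈ (Finset.Iic i).image κ' := by
      rw [image_Iic h' hE', ← image_Iic h hE]; exact mem_image_of_mem κ (Finset.mem_Iic.2 le_rfl)
    obtain ⟨j, hj, hje⟩ := mem_image.1 hv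
    rw [Finset.mem_Iic, Fin.le_def] at hj
    rcases hj.lt_or_eq with hlt | heq
    · have := ih j.val (by omega) j rfl
      rw [← this] at hje
      exact absurd (κ.injective hje) fun e => by rw [e] at hlt; omega
    · rw [Fin.ext heq] at hje; exact hje.symm
  · have hE' : i ∉ ends κ' := e ▸ hE
    rw [mem_ends] at hE hE'
    have := h i
    have := h' i
    exact Fin.ext (by omega)

theorem exists_valid : ∀ (k : ℕ) (E : Finset (Fin n)), (univ \ E).card = k →
    (∀ i : Fin n, i.val + 1 = n → i ∈ E) →
    ∃ κ : Equiv.Perm (Fin n), IsValid κ ∧ ends κ = E := by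
  intro k
  induction k with
  | zero =>
    intro E hk _
    refine ⟨1, fun i => by simp, ?_⟩
    rw [card_eq_zero, sdiff_eq_empty_iff_subset] at hk
    rw [eq_univ_iff_forall.2 fun x => hk (mem_univ x)]
    exact eq_univ_iff_forall.2 fun i => mem_ends.2 (by simp)
  | succ k ih =>
    intro E hk hlast
    obtain ⟨e, he⟩ : (univ \ E).Nonempty := card_pos.1 (by omega)
    rw [mem_sdiff] at he
    have hins : (univ \ insert e E) = (univ \ E).erase e := by ext x; simp [and_comm]
    obtain ⟨κ, hκ, hE⟩ := ih (insert e E) (by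
      rw [hins, card_erase_of_mem (mem_sdiff.2 he), hk]; omega)
      fun i hi => mem_insert_of_mem (hlast i hi)
    have heE : e ∈ ends κ := hE ▸ mem_insert_self _ _
    have hne : (E.filter fun x => e < x).Nonempty := by
      obtain ⟨l, hl⟩ : ∃ l : Fin n, l.val + 1 = n := ⟨⟨n - 1, by have := e.isLt; omega⟩, by
        have := e.isLt; simp; omega⟩
      refine ⟨l, mem_filter.2 ⟨hlast l hl, ?_⟩⟩
      rw [Fin.lt_def]
      have : e ≠ l := fun x => he.2 (x ▸ hlast l hl)
      have := e.isLt
      have : e.val ≠ l.val := fun x => this.not_ge (by omega) |>.elim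
      omega
    set f := (E.filter fun x => e < x).min' hne with hf
    have hfm := mem_filter.1 ((E.filter fun x => e < x).min'_mem hne)
    rw [← hf] at hfm
    have hmin : ∀ x ∈ E, e < x → f ≤ x := fun x hx hex => min'_le _ _ (mem_filter.2 ⟨hx, hex⟩)
    have hfE : f ∈ ends κ := hE ▸ mem_insert_of_mem hfm.1
    have hef : e.val < f.val := hfm.2
    have hκf : (κ f).val = e.val + 1 := by
      have h1 : ¬ (κ f).val ≤ e.val := fun h => by
        have : κ f ∈ (Finset.Iic e).image κ := by rw [image_Iic hκ heE]; exact Finset.mem_Iic.2 h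
        obtain ⟨j, hj, hje⟩ := mem_image.1 this
        rw [Finset.mem_Iic, Fin.le_def, κ.injective hje] at hj; omega
      have h2 := mem_ends.1 hfE
      by_contra h3
      let j : Fin n := ⟨(κ f).val - 1, by have := (κ f).isLt; omega⟩
      have hj : j ∉ ends κ := by
        rw [hE, mem_insert, not_or]
        refine ⟨fun x => by have := congrArg Fin.val x; simp [j] at this; omega, fun x => ?_⟩
        have := hmin j x (by rw [Fin.lt_def]; simp [j]; omega)
        rw [Fin.le_def] at this; simp [j] at this; omega
      rw [mem_ends] at hj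
      have hj' : (κ j).val = (κ f).val := by
        have := hκ j; simp only [j] at this hj ⊢; omega
      have := congrArg Fin.val (κ.injective (Fin.ext hj'))
      simp [j] at this; omega
    refine ⟨κ * Equiv.swap e f, fun i => ?_, ?_⟩
    · rw [Equiv.Perm.mul_apply]
      by_cases hie : i = e
      · subst hie; rw [Equiv.swap_apply_left]; omega
      by_cases hif : i = f
      · subst hif; rw [Equiv.swap_apply_right]; have := mem_ends.1 heE; omega
      rw [Equiv.swap_apply_of_ne_of_ne hie hif]; exact hκ i
    · ext i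
      rw [mem_ends, Equiv.Perm.mul_apply]
      by_cases hie : i = e
      · subst hie
        rw [Equiv.swap_apply_left]
        simp only [he.2, iff_false]; omega
      by_cases hif : i = f
      · subst hif
        rw [Equiv.swap_apply_right]
        simp only [hfm.1, iff_true]
        have := mem_ends.1 heE; omega
      rw [Equiv.swap_apply_of_ne_of_ne hie hif, ← mem_ends, hE, mem_insert]
      simp [hie]

theorem sign_valid : ∀ (k : ℕ) (κ : Equiv.Perm (Fin n)), IsValid κ → (univ \ ends κ).card = k →
    Equiv.Perm.sign κ = (-1) ^ k := by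
  intro k
  induction k with
  | zero =>
    intro κ hκ hk
    have e : κ = 1 := ends_injective hκ (fun i => by simp) (by
      rw [card_eq_zero, sdiff_eq_empty_iff_subset] at hk
      rw [eq_univ_iff_forall.2 fun x => hk (mem_univ x)]
      exact (eq_univ_iff_forall.2 fun i => mem_ends.2 (by simp)).symm)
    simp [e]
  | succ k ih =>
    intro κ hκ hk
    obtain ⟨e, he⟩ : (univ \ ends κ).Nonempty := card_pos.1 (by omega)
    have hlast : ∀ i : Fin n, i.val + 1 = n → i ∈ ends κ := fun i hi =>
      mem_ends.2 (by have := (κ i).isLt; omega)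
    have hins : (univ \ insert e (ends κ)) = (univ \ ends κ).erase e := by ext x; simp [and_comm]
    obtain ⟨κ₁, h1, hE1⟩ := exists_valid k (insert e (ends κ)) (by
      rw [hins, card_erase_of_mem he, hk]; omega) fun i hi => mem_insert_of_mem (hlast i hi)
    rw [mem_sdiff, mem_ends] at he
    have heE : e ∈ ends κ₁ := hE1 ▸ mem_insert_self _ _
    have hs : ∃ f, e ≠ f ∧ κ = κ₁ * Equiv.swap e f := by
      refine ⟨κ₁⁻¹ (κ e), fun x => ?_, ?_⟩
      · have := congrArg κ₁ x
        rw [Equiv.Perm.coe_inv, Equiv.apply_symm_apply] at this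
        rw [← this] at he
        exact he.2 (mem_ends.1 heE)
      set f := κ₁⁻¹ (κ e) with hfdef
      have hf : κ₁ f = κ e := by simp [hfdef]
      have hκe : (κ e).val = e.val + 1 := by have := hκ e; omega
      have hfne : f ≠ e := fun x => by
        rw [x] at hf; have := mem_ends.1 heE; rw [hf] at this; omega
      have hfE : f ∈ ends κ := by
        by_contra hc
        have h2 : f ∉ ends κ₁ := by rw [hE1, mem_insert, not_or]; exact ⟨hfne, hc⟩
        rw [mem_ends] at h2 hc
        have := h1 f
        have := hκ f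
        have : κ f = κ₁ f := Fin.ext (by omega)
        exact hfne (κ.injective (this.trans hf))
      refine ends_injective hκ (fun i => ?_) ?_
      · rw [Equiv.Perm.mul_apply]
        by_cases hie : i = e
        · subst hie; rw [Equiv.swap_apply_left, hf]; omega
        by_cases hif : i = f
        · rw [hif, Equiv.swap_apply_right]
          have := mem_ends.1 heE
          have hle : e.val < f.val := by
            have h3 : f ∈ ends κ₁ := hE1 ▸ mem_insert_of_mem hfE
            have h4 := mem_ends.1 h3
            rw [hf] at h4; omega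
          omega
        rw [Equiv.swap_apply_of_ne_of_ne hie hif]; exact h1 i
      · ext i
        rw [mem_ends, mem_ends, Equiv.Perm.mul_apply]
        by_cases hie : i = e
        · subst hie; rw [Equiv.swap_apply_left, hf]
        by_cases hif : i = f
        · rw [hif, Equiv.swap_apply_right]
          have h4 := mem_ends.1 (hE1 ▸ mem_insert_of_mem hfE : f ∈ ends κ₁)
          rw [hf] at h4
          have := mem_ends.1 heE
          have := mem_ends.1 hfE
          omega
        rw [Equiv.swap_apply_of_ne_of_ne hie hif, ← mem_ends, ← mem_ends, hE1, mem_insert]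
        simp [hie]
    obtain ⟨f, hef, hκeq⟩ := hs
    rw [hκeq, map_mul, ih κ₁ h1 (by rw [hE1, hins, card_erase_of_mem (mem_sdiff.2 ⟨he.1, fun h => he.2 (mem_ends.1 h)⟩), hk]; omega),
      Equiv.Perm.sign_swap hef, pow_succ]

/-- The composition. -/
def comp (κ : Equiv.Perm (Fin n)) : Fin n → ℕ := fun i => 1 + i.val - (κ i).val

/-- Partial sums. -/
def psum (μ : Fin n → ℕ) (t : Fin n) : ℕ := ∑ k ∈ univ.filter (fun k : Fin n => k ≤ t), μ k

theorem psum_end {κ : Equiv.Perm (Fin n)} (h : IsValid κ) {e : Fin n} (he : e ∈ ends κ) :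
    psum (comp κ) e = e.val + 1 := by
  have hI : univ.filter (fun k : Fin n => k ≤ e) = Finset.Iic e := by ext; simp
  rw [psum, hI]
  have h1 : ∑ k ∈ Finset.Iic e, (comp κ k + (κ k).val) = ∑ k ∈ Finset.Iic e, (1 + k.val) :=
    sum_congr rfl fun k _ => by simp only [comp]; have := h k; omega
  have h2 : ∑ k ∈ Finset.Iic e, (κ k).val = ∑ k ∈ Finset.Iic e, k.val := by
    conv_rhs => rw [← image_Iic h he, sum_image fun a _ b _ e => κ.injective e]
  rw [sum_add_distrib, sum_add_distrib, h2, sum_const, Fin.card_Iic, smul_eq_mul, mul_one] at h1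
  omega

theorem psum_cases {κ : Equiv.Perm (Fin n)} (h : IsValid κ) : ∀ (m : ℕ) (t : Fin n), t.val = m →
    psum (comp κ) t = 0 ∨ ∃ e ∈ ends κ, psum (comp κ) t = e.val + 1 := by
  intro m
  induction m using Nat.strong_induction_on with
  | _ m ih =>
  intro t ht
  by_cases hE : t ∈ ends κ
  · exact Or.inr ⟨t, hE, psum_end h hE⟩
  have hμ : comp κ t = 0 := by rw [mem_ends] at hE; have := h t; simp only [comp]; omega
  by_cases h0 : t.val = 0
  · left
    refine sum_eq_zero fun k hk => ?_
    have : k = t := Fin.ext (by have := (mem_filter.1 hk).2; rw [Fin.le_def] at this; omega)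
    rw [this, hμ]
  · let t' : Fin n := ⟨t.val - 1, by have := t.isLt; omega⟩
    have e : psum (comp κ) t = psum (comp κ) t' := by
      have hsplit : univ.filter (fun k : Fin n => k ≤ t) = insert t (univ.filter fun k : Fin n => k ≤ t') := by
        ext k; simp only [mem_filter, mem_univ, true_and, mem_insert, Fin.le_def, Fin.ext_iff, t']; omega
      rw [psum, hsplit, sum_insert (by simp [t', Fin.le_def]; omega), hμ, zero_add]; rfl
    rw [e]
    exact ih t'.val (show t.val - 1 < m by omega) t' rfl

theorem mem_parabolic_iff {F : Type*} [Field F] {κ : Equiv.Perm (Fin n)} (h : IsValid κ)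
    (g : GL (Fin n) F) : g ∈ Cfsg.parabolicGL n F (comp κ) ↔
      ∀ e ∈ ends κ, ∀ i j : Fin n, j ≤ e → e < i → (g : Matrix (Fin n) (Fin n) F) i j = 0 := by
  have hl : ∀ i, Cfsg.compLabel (comp κ) i = (univ.filter fun t => psum (comp κ) t ≤ i.val).card :=
    fun i => rfl
  show ((g : Matrix (Fin n) (Fin n) F).BlockTriangular (Cfsg.compLabel (comp κ))) ↔ _
  constructor
  · intro hg e he i j hj hi
    apply hg
    rw [hl, hl]
    refine card_lt_card (Finset.ssubset_iff_of_subset (fun t ht => ?_) |>.2 ⟨e, ?_, ?_⟩)
    · rw [mem_filter] at ht ⊢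
      rw [Fin.le_def] at hj; rw [Fin.lt_def] at hi
      exact ⟨ht.1, by omega⟩
    · rw [mem_filter, psum_end h he]
      rw [Fin.lt_def] at hi
      exact ⟨mem_univ _, by omega⟩
    · rw [mem_filter, psum_end h he]
      rw [Fin.le_def] at hj
      rintro ⟨-, hc⟩; omega
  · intro hg i j hlt
    rw [hl, hl] at hlt
    obtain ⟨t, ht, hnt⟩ := exists_mem_notMem_of_card_lt_card hlt
    rw [mem_filter] at ht
    rw [mem_filter, not_and] at hnt
    have hnt := hnt (mem_univ _)
    rcases psum_cases h _ t rfl with h0 | ⟨e, he, hte⟩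
    · omega
    · exact hg e he i j (by rw [Fin.le_def]; omega) (by rw [Fin.lt_def]; omega)

/-! ### Flags -/

variable {F : Type*} [Field F]

/-- The span of the first `d` basis vectors. -/
def std (n : ℕ) (F : Type*) [Field F] (d : ℕ) : Submodule F (Fin n → F) where
  carrier := {v | ∀ i : Fin n, d ≤ i.val → v i = 0}
  zero_mem' _ _ := rfl
  add_mem' ha hb i hi := by simp [ha i hi, hb i hi]
  smul_mem' c a ha i hi := by simp [ha i hi]

theorem finrank_std {d : ℕ} (hd : d ≤ n) : finrank F (std n F d) = d := by
  let e : std n F d ≃ₗ[F] (Fin d → F) :=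
    { toFun := fun v i => v.1 (Fin.castLE hd i)
      map_add' := fun _ _ => rfl
      map_smul' := fun _ _ => rfl
      invFun := fun w => ⟨fun i => if h : i.val < d then w ⟨i.val, h⟩ else 0, fun i hi => dif_neg (by omega)⟩
      left_inv := fun v => Subtype.ext <| funext fun i => by
        by_cases h : i.val < d
        · simp [h]
        · simp [h, v.2 i (by omega)]
      right_inv := fun w => funext fun i => by simp }
  rw [e.finrank_eq, finrank_fin_fun]

/-- Adapted bases for chains. -/
theorem exists_adapted {V : Type*} [AddCommGroup V] [Module F V] [FiniteDimensional F V]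
    (C : Finset (Submodule F V)) (hC : IsChain (· ≤ ·) (C : Set (Submodule F V))) :
    ∃ b : ℕ → V, ∀ X ∈ C, Submodule.span F (b '' Set.Iio (finrank F X)) = X := by
  classical
  induction hn : C.card generalizing C with
  | zero => exact ⟨fun _ => 0, by simp [card_eq_zero.1 hn]⟩
  | succ k ih =>
    have hne : C.Nonempty := card_pos.1 (by omega)
    obtain ⟨M, hM⟩ := C.exists_maximal hne
    have hle : ∀ X ∈ C, X ≤ M := fun X hX => by
      rcases hC.total hX hM.1 with h | h
      · exact h
      · exact hM.2 hX h
    obtain ⟨b, hb⟩ := ih (C.erase M) (hC.mono (coe_subset.2 (erase_subset _ _)))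
      (by rw [card_erase_of_mem hM.1, hn]; omega)
    -- the largest smaller member
    obtain ⟨A, hAM, hA, hAb, hAle⟩ : ∃ A : Submodule F V, A ≤ M ∧ (∀ X ∈ C.erase M, X ≤ A) ∧
        Submodule.span F (b '' Set.Iio (finrank F A)) = A ∧ True := by
      rcases (C.erase M).eq_empty_or_nonempty with he | hne'
      · exact ⟨⊥, bot_le, by simp [he], by simp, trivial⟩
      · obtain ⟨A, hA⟩ := (C.erase M).exists_maximal hne'
        refine ⟨A, hle A (mem_of_mem_erase hA.1), fun X hX => ?_, hb A hA.1, trivial⟩
        rcases (hC.mono (coe_subset.2 (erase_subset _ _))).total hX hA.1 with h | h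
        · exact h
        · exact hA.2 hX h
    obtain ⟨W, hWd, hWs⟩ : ∃ W : Submodule F V, A ⊓ W = ⊥ ∧ A ⊔ W = M := by
      obtain ⟨q, hq⟩ := exists_isCompl A
      refine ⟨q ⊓ M, by rw [← inf_assoc, hq.inf_eq_bot, bot_inf_eq], ?_⟩
      rw [← sup_inf_assoc_of_le q hAM, hq.sup_eq_top, top_inf_eq]
    set a := finrank F A
    set w := Module.finBasis F W
    have hdim : finrank F M = a + finrank F W := by
      have h := Submodule.finrank_sup_add_finrank_inf_eq A W
      rw [hWs, hWd, finrank_bot, add_zero] at h
      exact h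
    let b' : ℕ → V := fun i => if i < a then b i else
      if h : i - a < finrank F W then (w ⟨i - a, h⟩ : V) else 0
    have hlow : ∀ d, d ≤ a → b' '' Set.Iio d = b '' Set.Iio d := fun d hd =>
      Set.image_congr fun i hi => if_pos (lt_of_lt_of_le hi hd)
    refine ⟨b', fun X hX => ?_⟩
    by_cases hXM : X = M
    · subst hXM
      refine le_antisymm (Submodule.span_le.2 ?_) ?_
      · rintro _ ⟨i, hi, rfl⟩
        simp only [b']
        split_ifs with h1 h2
        · refine hAM ?_
          rw [← hAb]
          exact Submodule.subset_span ⟨i, h1, rfl⟩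
        · exact (hWs ▸ le_sup_right : W ≤ X) (Subtype.coe_prop _)
        · exact X.zero_mem
      · refine le_trans (le_of_eq hWs.symm) (sup_le ?_ ?_)
        · rw [← hAb, ← hlow a le_rfl, hdim]
          exact Submodule.span_mono (Set.image_mono (Set.Iio_subset_Iio (by omega)))
        · intro x hx
          have hw : (⟨x, hx⟩ : W) ∈ Submodule.span F (Set.range w) := by rw [w.span_eq]; trivial
          have : x ∈ (Submodule.span F (Set.range w)).map W.subtype := ⟨⟨x, hx⟩, hw, rfl⟩
          rw [Submodule.map_span] at this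
          refine Submodule.span_mono ?_ this
          rintro _ ⟨_, ⟨i, rfl⟩, rfl⟩
          exact ⟨a + i.val, by rw [Set.mem_Iio, hdim]; omega, by simp [b']⟩
    · have hXe : X ∈ C.erase M := mem_erase.2 ⟨hXM, hX⟩
      rw [hlow _ (Submodule.finrank_mono (hA X hXe)), hb X hXe]

/-- The linear map of an element of `GL`. -/
noncomputable def lin (g : GL (Fin n) F) : (Fin n → F) →ₗ[F] (Fin n → F) :=
  Matrix.mulVecLin (g : Matrix (Fin n) (Fin n) F)

theorem lin_mul (g h : GL (Fin n) F) : lin (g * h) = (lin g).comp (lin h) := by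
  simp [lin, Matrix.mulVecLin_mul]

theorem lin_injective (g : GL (Fin n) F) : Function.Injective (lin g) :=
  Matrix.mulVec_injective_iff_isUnit.2 g.isUnit

theorem finrank_map_lin (g : GL (Fin n) F) (W : Submodule F (Fin n → F)) :
    finrank F (W.map (lin g)) = finrank F W :=
  (Submodule.equivMapOfInjective _ (lin_injective g) W).finrank_eq.symm

theorem map_std_le_iff (g : GL (Fin n) F) (d : ℕ) : (std n F d).map (lin g) ≤ std n F d ↔
    ∀ i j : Fin n, j.val < d → d ≤ i.val → (g : Matrix (Fin n) (Fin n) F) i j = 0 := by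
  constructor
  · intro h i j hj hi
    have hm : (Pi.single j (1 : F) : Fin n → F) ∈ std n F d := fun k hk =>
      Pi.single_eq_of_ne (fun e => by rw [e] at hk; omega) _
    have := h ⟨_, hm, rfl⟩ i hi
    simpa [lin] using this
  · rintro h _ ⟨v, hv, rfl⟩ i hi
    show ((g : Matrix (Fin n) (Fin n) F).mulVec v) i = 0
    simp only [Matrix.mulVec, dotProduct]
    refine Finset.sum_eq_zero fun j _ => ?_
    by_cases hj : j.val < d
    · rw [h i j hj hi, zero_mul]
    · rw [hv j (by omega), mul_zero]

variable [Fintype F]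

/-- The sum as an alternating sum over invariant flags. -/
theorem alternating_sum_eq (x : GL (Fin n) F) :
    Cfsg.unipotentCharacterGL n F (fun _ => 1) x =
      (((-1) ^ n * chainSum (invs (lin x)) ⊤ : ℤ) : ℂ) := by
  classical
  set L := invs (lin x) with hL
  set dims : Finset (Submodule F (Fin n → F)) → Finset ℕ := fun C => C.image fun X : Submodule F (Fin n → F) => finrank F X
    with hdims
  set V := univ.filter (fun κ : Equiv.Perm (Fin n) => IsValid κ) with hV
  set D : Equiv.Perm (Fin n) → Finset ℕ := fun κ => (ends κ).image fun e => e.val + 1 with hD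
  have hDinj : Set.InjOn D V := by
    intro κ hκ κ' hκ' e
    have hk := (mem_filter.1 hκ).2
    have hk' := (mem_filter.1 hκ').2
    exact ends_injective hk hk' (Finset.image_injective (fun a b h => Fin.ext (by simpa using h)) e)
  -- dimensions are injective on a chain
  have chinj : ∀ C ∈ chainsTo L (⊤ : Submodule F (Fin n → F)),
      ∀ X ∈ C, ∀ Y ∈ C, finrank F X = finrank F Y → X = Y := by
    intro C hC X hX Y hY e
    rcases (mem_chainsTo.1 hC).2.1.total hX hY with h | h
    · exact Submodule.eq_of_le_of_finrank_eq h e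
    · exact (Submodule.eq_of_le_of_finrank_eq h e.symm).symm
  -- cosets and flags
  have key : ∀ κ ∈ V, Nat.card (MulAction.fixedBy (GL (Fin n) F ⧸ Cfsg.parabolicGL n F (comp κ)) x) =
      ((chainsTo L ⊤).filter fun C => dims C = D κ).card := by
    intro κ hκ
    have hk := (mem_filter.1 hκ).2
    set P := Cfsg.parabolicGL n F (comp κ) with hP
    have hlastE : ∀ i : Fin n, i.val + 1 = n → i ∈ ends κ := fun i hi =>
      mem_ends.2 (by have := (κ i).isLt; omega)
    have hPmap : ∀ p, p ∈ P ↔ ∀ e ∈ ends κ, (std n F (e.val + 1)).map (lin p) ≤ std n F (e.val + 1) := by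
      intro p
      rw [hP, mem_parabolic_iff hk]
      refine forall₂_congr fun e _ => ?_
      rw [map_std_le_iff]
      simp only [Fin.le_def, Fin.lt_def, Nat.lt_succ_iff, Nat.succ_le_iff]
    have hPeq : ∀ p ∈ P, ∀ e ∈ ends κ, (std n F (e.val + 1)).map (lin p) = std n F (e.val + 1) :=
      fun p hp e he => Submodule.eq_of_le_of_finrank_eq ((hPmap p).1 hp e he) (finrank_map_lin _ _)
    let flag : GL (Fin n) F → Finset (Submodule F (Fin n → F)) := fun g =>
      (ends κ).image fun e => (std n F (e.val + 1)).map (lin g)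
    have hflag : ∀ g, ∀ p ∈ P, flag (g * p) = flag g := fun g p hp =>
      image_congr fun e he => by simp only [lin_mul, Submodule.map_comp, hPeq p hp e he]
    let fl : GL (Fin n) F ⧸ P → Finset (Submodule F (Fin n → F)) := Quotient.lift flag fun a b hab => by
      rw [← hflag a (a⁻¹ * b) (QuotientGroup.leftRel_apply.1 hab), mul_inv_cancel_left]
    have hfl : ∀ g : GL (Fin n) F, fl (g : GL (Fin n) F ⧸ P) = flag g := fun g => rfl
    have hfr : ∀ g : GL (Fin n) F, ∀ e : Fin n,
        finrank F ((std n F (e.val + 1)).map (lin g)) = e.val + 1 := fun g e => by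
      rw [finrank_map_lin, finrank_std e.isLt]
    have hinj : Function.Injective fl := by
      intro a b
      induction a using QuotientGroup.induction_on with | H a =>
      induction b using QuotientGroup.induction_on with | H b =>
      intro e
      rw [hfl, hfl] at e
      rw [QuotientGroup.eq, hPmap]
      intro i hi
      have hm : (std n F (i.val + 1)).map (lin a) ∈ flag b := e ▸ mem_image_of_mem _ hi
      obtain ⟨j, hj, hje⟩ := mem_image.1 hm
      have hij : j = i := Fin.ext (by have := congrArg (fun X : Submodule F (Fin n → F) => finrank F X) hje; simpa [hfr] using this)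
      rw [hij] at hje
      rw [lin_mul, Submodule.map_comp, hje, ← Submodule.map_comp, ← lin_mul, inv_mul_cancel]
      simp [lin]
    have hfix : ∀ g : GL (Fin n) F, ((g : GL (Fin n) F ⧸ P) ∈ MulAction.fixedBy _ x) ↔
        ∀ e ∈ ends κ, (std n F (e.val + 1)).map (lin g) ∈ L := by
      intro g
      rw [MulAction.mem_fixedBy, show x • (g : GL (Fin n) F ⧸ P) = ((x * g : GL (Fin n) F) : GL (Fin n) F ⧸ P) from rfl,
        eq_comm, QuotientGroup.eq, hPmap]
      refine forall₂_congr fun e _ => ?_
      rw [hL, mem_invs, lin_mul, lin_mul, Submodule.map_comp, Submodule.map_comp]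
      constructor
      · intro h v hv
        have : lin g⁻¹ (lin x v) ∈ std n F (e.val + 1) := h ⟨lin x v, ⟨v, hv, rfl⟩, rfl⟩
        refine ⟨_, this, ?_⟩
        rw [← LinearMap.comp_apply, ← lin_mul, mul_inv_cancel]; simp [lin]
      · rintro h _ ⟨_, ⟨v, hv, rfl⟩, rfl⟩
        obtain ⟨w, hw, hwe⟩ := h v hv
        rw [← hwe, ← LinearMap.comp_apply, ← lin_mul, inv_mul_cancel]
        simpa [lin] using hw
    rw [← Nat.card_eq_finsetCard]
    refine Nat.card_congr (Equiv.ofBijective (fun c => (⟨fl c.1, ?_⟩ : ((chainsTo L ⊤).filter fun C => dims C = D κ))) ⟨?_, ?_⟩)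
    · obtain ⟨c, hc⟩ := c
      induction c using QuotientGroup.induction_on with | H g =>
      have hinv := (hfix g).1 hc
      show flag g ∈ _
      rw [mem_filter, mem_chainsTo]
      refine ⟨⟨?_, ?_, ?_, fun _ _ => le_top, ?_⟩, ?_⟩
      · intro X hX
        obtain ⟨e, he, rfl⟩ := mem_image.1 hX
        exact hinv e he
      · intro X hX Y hY _
        obtain ⟨e, he, rfl⟩ := mem_image.1 hX
        obtain ⟨f, hf, rfl⟩ := mem_image.1 hY
        have mono : ∀ e f : Fin n, e ≤ f → (std n F (e.val + 1)).map (lin g) ≤ (std n F (f.val + 1)).map (lin g) :=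
          fun e f h => Submodule.map_mono fun v hv i hi => hv i (by rw [Fin.le_def] at h; omega)
        rcases le_total e f with h | h
        · exact Or.inl (mono e f h)
        · exact Or.inr (mono f e h)
      · intro h
        obtain ⟨e, -, he⟩ := mem_image.1 h
        have := hfr g e
        rw [he, finrank_bot] at this; omega
      · rcases Nat.eq_zero_or_pos n with hn | hn
        · left
          subst hn
          exact Subsingleton.elim _ _
        · right
          refine mem_image.2 ⟨⟨n - 1, by omega⟩, hlastE _ (by simp; omega), ?_⟩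
          refine Submodule.eq_top_of_finrank_eq ?_
          rw [hfr, finrank_fin_fun]; simp; omega
      · rw [hdims, hD]
        simp only [flag, image_image]
        exact image_congr fun e _ => hfr g e
    · exact fun a b e => Subtype.ext (hinj (congrArg Subtype.val e))
    · rintro ⟨C, hC⟩
      rw [mem_filter] at hC
      obtain ⟨hC, hd⟩ := hC
      obtain ⟨hsub, hch, hb0, -, htop⟩ := mem_chainsTo.1 hC
      obtain ⟨b, hb⟩ := exists_adapted C hch
      let M : Matrix (Fin n) (Fin n) F := Matrix.of fun i j => b j.val i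
      have hcol : ∀ j : Fin n, M.mulVec (Pi.single j 1) = b j.val := fun j => by
        funext i; simp [M]
      have hunit : IsUnit M := by
        rw [← Matrix.mulVec_surjective_iff_isUnit]
        intro v
        rcases htop with ht | ht
        · have : v ∈ (⊥ : Submodule F (Fin n → F)) := ht ▸ Submodule.mem_top
          exact ⟨0, by rw [(Submodule.mem_bot _).1 this]; simp⟩
        · have hv : v ∈ Submodule.span F (b '' Set.Iio n) := by
            have := hb ⊤ ht
            rw [finrank_top, finrank_fin_fun] at this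
            rw [this]; trivial
          refine Submodule.span_le (p := LinearMap.range M.mulVecLin) |>.2 ?_ hv
          rintro _ ⟨i, hi, rfl⟩
          exact ⟨Pi.single ⟨i, hi⟩ 1, hcol ⟨i, hi⟩⟩
      set g : GL (Fin n) F := hunit.unit with hg
      have hmap : ∀ e ∈ ends κ, ∃ X ∈ C, (std n F (e.val + 1)).map (lin g) = X ∧ finrank F X = e.val + 1 := by
        intro e he
        have : e.val + 1 ∈ dims C := by rw [hd]; exact mem_image_of_mem _ he
        obtain ⟨X, hX, hXd⟩ := mem_image.1 this
        refine ⟨X, hX, Submodule.eq_of_le_of_finrank_eq ?_ (by rw [hfr, hXd]), hXd⟩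
        rintro _ ⟨v, hv, rfl⟩
        rw [← hb X hX]
        show M.mulVec v ∈ _
        have hvs : v = ∑ j, v j • (Pi.single j (1 : F) : Fin n → F) := pi_eq_sum_univ' v
        rw [hvs, Matrix.mulVec_sum]
        refine Submodule.sum_mem _ fun j _ => ?_
        rw [Matrix.mulVec_smul]
        by_cases hj : j.val < e.val + 1
        · exact Submodule.smul_mem _ _ (Submodule.subset_span ⟨j.val, by rw [hXd]; exact hj, (hcol j).symm⟩)
        · rw [hv j (by omega), zero_smul]; exact Submodule.zero_mem _
      refine ⟨⟨(g : GL (Fin n) F ⧸ P), (hfix g).2 fun e he => ?_⟩, Subtype.ext ?_⟩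
      · obtain ⟨X, hX, e1, -⟩ := hmap e he
        rw [e1]; exact hsub hX
      · show flag g = C
        refine subset_antisymm (fun X hX => ?_) fun X hX => ?_
        · obtain ⟨e, he, rfl⟩ := mem_image.1 hX
          obtain ⟨Y, hY, e1, -⟩ := hmap e he
          rwa [e1]
        · have : finrank F X ∈ D κ := hd ▸ mem_image_of_mem _ hX
          obtain ⟨e, he, hee⟩ := mem_image.1 this
          obtain ⟨Y, hY, e1, hYd⟩ := hmap e he
          rw [← chinj C hC Y hY X hX (by rw [hYd, hee]), ← e1]
          exact mem_image_of_mem _ he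
  -- every chain has the dimensions of some term
  have hmaps : ∀ C ∈ chainsTo L (⊤ : Submodule F (Fin n → F)), dims C ∈ V.image D := by
    intro C hC
    obtain ⟨-, -, hb0, -, htop⟩ := mem_chainsTo.1 hC
    set E := univ.filter (fun e : Fin n => e.val + 1 ∈ dims C) with hE
    obtain ⟨κ, hk, hκE⟩ := exists_valid (univ \ E).card E rfl (fun i hi => by
      rw [hE, mem_filter]
      refine ⟨mem_univ _, mem_image.2 ⟨⊤, ?_, by rw [finrank_top, finrank_fin_fun, hi]⟩⟩
      rcases htop with h | h
      · have := congrArg (fun X : Submodule F (Fin n → F) => finrank F X) h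
        simp at this
        omega
      · exact h)
    refine mem_image.2 ⟨κ, mem_filter.2 ⟨mem_univ _, hk⟩, ?_⟩
    ext d
    simp only [hD, hκE, hE, mem_image, mem_filter, mem_univ, true_and]
    constructor
    · rintro ⟨e, he, rfl⟩; exact he
    · intro hd
      obtain ⟨X, hX, rfl⟩ := mem_image.1 hd
      have h1 : finrank F X ≠ 0 := fun e => hb0 (Submodule.finrank_eq_zero.1 e ▸ hX)
      have h2 : finrank F X ≤ n := (Submodule.finrank_le X).trans (le_of_eq (finrank_fin_fun F))
      exact ⟨⟨finrank F X - 1, by omega⟩, by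
        simp only [Nat.sub_add_cancel (Nat.one_le_iff_ne_zero.2 h1)]; exact hd, by simp; omega⟩
  -- assemble
  rw [Cfsg.unipotentCharacterGL, ← Finset.sum_filter]
  rw [show (univ.filter fun κ : Equiv.Perm (Fin n) => ∀ i : Fin n, (κ i).val ≤ 1 + i.val) = V from
    Finset.filter_congr fun κ _ => Iff.rfl]
  have hterm : ∀ κ ∈ V, ((Equiv.Perm.sign κ : ℤ) : ℂ) *
      Cfsg.fixedPointCharacter (Cfsg.parabolicGL n F fun i => 1 + i.val - (κ i).val) x =
      ((∑ C ∈ (chainsTo L ⊤).filter (fun C => dims C = D κ), (-1) ^ n * (-1) ^ C.card : ℤ) : ℂ) := by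
    intro κ hκ
    have hk := (mem_filter.1 hκ).2
    have hcard : ∀ C ∈ (chainsTo L ⊤).filter (fun C => dims C = D κ), C.card = (ends κ).card := by
      intro C hC
      rw [mem_filter] at hC
      have e1 : (dims C).card = C.card := card_image_of_injOn fun X hX Y hY e => chinj C hC.1 X hX Y hY e
      rw [← e1, hC.2]
      exact card_image_of_injective _ fun a b h => Fin.ext (by simpa using h)
    rw [show (fun i : Fin n => 1 + i.val - (κ i).val) = comp κ from rfl, Cfsg.fixedPointCharacter,
      key κ hκ, Finset.sum_congr rfl fun C hC => by rw [hcard C hC], Finset.sum_const,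
      sign_valid _ κ hk rfl, card_sdiff_of_subset (subset_univ _), card_univ, Fintype.card_fin]
    have hle : (ends κ).card ≤ n := (card_le_univ _).trans (le_of_eq (Fintype.card_fin n))
    obtain ⟨r, hr⟩ := Nat.exists_eq_add_of_le hle
    rw [show n - (ends κ).card = r by omega]
    rw [nsmul_eq_mul]
    push_cast
    rw [show ((-1 : ℂ) ^ n * (-1) ^ (ends κ).card) = (-1) ^ r by
      rw [← pow_add, show n + (ends κ).card = 2 * (ends κ).card + r by omega, pow_add, pow_mul]; simp]
    ring
  rw [Finset.sum_congr rfl hterm, ← Int.cast_sum, ← Finset.sum_image (f := fun d =>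
    ∑ C ∈ (chainsTo L ⊤).filter (fun C => dims C = d), (-1 : ℤ) ^ n * (-1) ^ C.card) hDinj,
    Finset.sum_fiberwise_of_maps_to hmaps, chainSum, Finset.mul_sum]

end CfsgLib.SteinbergValue
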