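import Mathlib

/-!
# Alternating sums over chains in a finite sub-semilattice, and Weisner's vanishing
-/

set_option autoImplicit false
set_option linter.unusedSectionVars false

namespace CfsgLib.SteinbergValue

variable {α : Type*} [Lattice α] [OrderBot α] [DecidableEq α]

open Finset

open scoped Classical in
/-- Chains of nonbottom elements of `L` below `M` containing `M` unless it is the bottom. -/
noncomputable def chainsTo (L : Finset α) (M : α) : Finset (Finset α) :=
  L.powerset.filter fun C => IsChain (· ≤ ·) (C : Set α) ∧ ⊥ ∉ C ∧ (∀ x ∈ C, x ≤ M) ∧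
    (M = ⊥ ∨ M ∈ C)

/-- The alternating sum over chains, the Möbius function from the bottom. -/
noncomputable def chainSum (L : Finset α) (M : α) : ℤ := ∑ C ∈ chainsTo L M, (-1) ^ C.card

theorem mem_chainsTo {L : Finset α} {M : α} {C : Finset α} :
    C ∈ chainsTo L M ↔ C ⊆ L ∧ IsChain (· ≤ ·) (C : Set α) ∧ ⊥ ∉ C ∧ (∀ x ∈ C, x ≤ M) ∧
      (M = ⊥ ∨ M ∈ C) := by
  simp [chainsTo, mem_powerset]

theorem chainSum_bot (L : Finset α) : chainSum L (⊥ : α) = 1 := by
  have e : chainsTo L (⊥ : α) = {∅} := by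
    ext C
    rw [mem_chainsTo, mem_singleton]
    constructor
    · rintro ⟨-, -, hb, hle, -⟩
      refine eq_empty_of_forall_notMem fun x hx => hb ?_
      rwa [← le_bot_iff.1 (hle x hx)]
    · rintro rfl
      exact ⟨empty_subset _, by simp [IsChain], notMem_empty _, by simp, Or.inl rfl⟩
  simp [chainSum, e]

theorem sup_mem_chain {C : Finset α} (h : IsChain (· ≤ ·) (C : Set α)) (hne : C.Nonempty) :
    C.sup id ∈ C := by
  obtain ⟨m, hm⟩ := C.exists_maximal hne
  have hg : ∀ x ∈ C, x ≤ m := fun x hx => by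
    rcases h.total hx hm.1 with h1 | h1
    · exact h1
    · exact hm.2 hx h1
  have : C.sup id = m := le_antisymm (Finset.sup_le hg) (le_sup (f := id) hm.1)
  rw [this]; exact hm.1

theorem chainSum_rec {L : Finset α} {M : α} (hM : M ∈ L) (hbot : (⊥ : α) ∈ L) (h0 : M ≠ ⊥)
    [DecidableRel ((· < ·) : α → α → Prop)] :
    chainSum L M = - ∑ H ∈ L.filter (fun H => H < M), chainSum L H := by
  classical
  have hsig : ∑ H ∈ L.filter (fun H => H < M), chainSum L H =
      ∑ p ∈ (L.filter (fun H => H < M)).sigma (fun H => chainsTo L H), (-1 : ℤ) ^ p.2.card := by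
    simp only [chainSum]
    rw [Finset.sum_sigma]
  rw [hsig, ← Finset.sum_neg_distrib, chainSum]
  refine Finset.sum_nbij' (fun C => ⟨(C.erase M).sup id, C.erase M⟩) (fun p => insert M p.2) ?_ ?_ ?_ ?_ ?_
  · intro C hC
    rw [mem_chainsTo] at hC
    obtain ⟨hsub, hch, hb, hle, hmem⟩ := hC
    have hMC : M ∈ C := hmem.resolve_left h0
    have hch' : IsChain (· ≤ ·) ((C.erase M : Finset α) : Set α) :=
      hch.mono (coe_subset.2 (erase_subset _ _))
    rw [mem_sigma, mem_filter, mem_chainsTo]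
    rcases (C.erase M).eq_empty_or_nonempty with he | hne
    · simp [he, hbot, bot_lt_iff_ne_bot.2 h0, IsChain]
    · have hs := sup_mem_chain hch' hne
      refine ⟨⟨hsub (mem_of_mem_erase hs), lt_of_le_of_ne (hle _ (mem_of_mem_erase hs)) (ne_of_mem_erase hs)⟩,
        (erase_subset _ _).trans hsub, hch', fun h => hb (mem_of_mem_erase h),
        fun x hx => le_sup (f := id) hx, Or.inr hs⟩
  · rintro ⟨H, C⟩ hC
    rw [mem_sigma, mem_filter, mem_chainsTo] at hC
    obtain ⟨⟨-, hlt⟩, hsub, hch, hb, hle, -⟩ := hC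
    rw [mem_chainsTo]
    refine ⟨insert_subset hM hsub, ?_, ?_, ?_, Or.inr (mem_insert_self _ _)⟩
    · rw [coe_insert]
      exact hch.insert fun x hx _ => Or.inr ((hle x hx).trans hlt.le)
    · rw [mem_insert, not_or]; exact ⟨fun e => h0 e.symm, hb⟩
    · intro x hx
      rcases mem_insert.1 hx with rfl | hx
      · exact le_rfl
      · exact (hle x hx).trans hlt.le
  · intro C hC
    rw [mem_chainsTo] at hC
    exact insert_erase (hC.2.2.2.2.resolve_left h0)
  · rintro ⟨H, C⟩ hC
    rw [mem_sigma, mem_filter, mem_chainsTo] at hC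
    obtain ⟨⟨-, hlt⟩, hsub, hch, hb, hle, hmem⟩ := hC
    have hnot : M ∉ C := fun h => absurd (hle M h) (not_le_of_gt hlt)
    have e : (insert M C).erase M = C := erase_insert hnot
    have e' : C.sup id = H := by
      refine le_antisymm (Finset.sup_le hle) ?_
      rcases hmem with rfl | h
      · exact bot_le
      · exact le_sup (f := id) h
    simp [e, e']
  · intro C hC
    rw [mem_chainsTo] at hC
    have hMC : M ∈ C := hC.2.2.2.2.resolve_left h0
    show (-1 : ℤ) ^ C.card = -((-1) ^ (C.erase M).card)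
    rw [← card_erase_add_one hMC, pow_succ]
    ring

theorem sum_le_chainSum {L : Finset α} {M : α} (hM : M ∈ L) (hbot : (⊥ : α) ∈ L) (h0 : M ≠ ⊥)
    [DecidableRel ((· ≤ ·) : α → α → Prop)] : ∑ H ∈ L.filter (fun H => H ≤ M), chainSum L H = 0 := by
  classical
  have e : L.filter (fun H => H ≤ M) = insert M (L.filter (fun H => H < M)) := by
    ext H
    simp only [mem_filter, mem_insert, le_iff_lt_or_eq]
    constructor
    · rintro ⟨h, h' | h'⟩
      · exact Or.inr ⟨h, h'⟩
      · exact Or.inl h'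
    · rintro (rfl | ⟨h, h'⟩)
      · exact ⟨hM, Or.inr rfl⟩
      · exact ⟨h, Or.inl h'⟩
  rw [e, sum_insert (by simp), chainSum_rec hM hbot h0, neg_add_cancel]

/-- Weisner's theorem. -/
theorem weisner {L : Finset α} (hbot : (⊥ : α) ∈ L) (hsup : ∀ A ∈ L, ∀ B ∈ L, A ⊔ B ∈ L) {S : α}
    (hS : S ∈ L) (hS0 : S ≠ ⊥) {M : α} (hM : M ∈ L) (hSM : S ≤ M) :
    ∑ H ∈ L.filter (fun H => S ⊔ H = M), chainSum L H = 0 := by
  classical
  induction hn : (L.filter (fun H => H ≤ M)).card using Nat.strong_induction_on generalizing M with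
  | _ n ih =>
  have h0 : M ≠ ⊥ := fun e => hS0 (le_bot_iff.1 (e ▸ hSM))
  have htot := sum_le_chainSum hM hbot h0
  have hfib : ∑ H ∈ L.filter (fun H => H ≤ M), chainSum L H =
      ∑ K ∈ L.filter (fun K => K ≤ M ∧ S ≤ K), ∑ H ∈ L.filter (fun H => S ⊔ H = K), chainSum L H := by
    rw [← Finset.sum_fiberwise_of_maps_to (s := L.filter (fun H => H ≤ M))
      (t := L.filter (fun K => K ≤ M ∧ S ≤ K)) (g := fun H => S ⊔ H)
      (fun H hH => by
        rw [mem_filter] at hH ⊢
        exact ⟨hsup S hS H hH.1, sup_le hSM hH.2, le_sup_left⟩)]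
    refine sum_congr rfl fun K hK => sum_congr ?_ fun _ _ => rfl
    rw [mem_filter] at hK
    ext H
    simp only [mem_filter]
    exact ⟨fun h => ⟨h.1.1, h.2⟩, fun h => ⟨⟨h.1, le_trans (h.2 ▸ le_sup_right) hK.2.1⟩, h.2⟩⟩
  rw [hfib, Finset.sum_eq_single_of_mem M (mem_filter.2 ⟨hM, le_rfl, hSM⟩)] at htot
  · exact htot
  · intro K hK hne
    rw [mem_filter] at hK
    refine ih _ ?_ hK.1 hK.2.2 rfl
    rw [← hn]
    refine card_lt_card ⟨fun H hH => ?_, fun h => ?_⟩
    · rw [mem_filter] at hH ⊢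
      exact ⟨hH.1, hH.2.trans hK.2.1⟩
    · have := h (mem_filter.2 ⟨hM, le_rfl⟩)
      exact hne (le_antisymm hK.2.1 (mem_filter.1 this).2)

end CfsgLib.SteinbergValue
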